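import Groth.Agent.Hyperplane.Basic
import Groth.Agent.PnCoh.Finite.TwistInv
import Groth.Agent.PnCoh.Chow.Relative
import Groth.Agent.ProjX.Chart
import Groth.Agent.RegSheaf7.Main
import Groth.Agent.S0843
import Groth.Agent.S2926
import Groth.Agent.ComodLib.GradedAug

/-!
# Twisting sheaves and change of coefficients
-/

set_option autoImplicit false
set_option linter.style.haveILetI false
set_option backward.isDefEq.respectTransparency false
set_option backward.isDefEq.respectTransparency.types false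

universe u

open CategoryTheory CategoryTheory.Limits AlgebraicGeometry TopologicalSpace HomogeneousLocalization

noncomputable section

namespace Groth.Agent.PnPic

open Groth.Agent
open scoped Groth.Agent.H23.PicMul

section Map

variable {R R' A B : Type u} [CommRing R] [CommRing R'] [CommRing A] [Algebra R A] [CommRing B] [Algebra R' B]
  {𝒜 : ℕ → Submodule R A} [GradedAlgebra 𝒜] {ℬ : ℕ → Submodule R' B} [GradedAlgebra ℬ]
  (φ : 𝒜 →+*ᵍ ℬ) (hφ : HomogeneousIdeal.irrelevant ℬ ≤ (HomogeneousIdeal.irrelevant 𝒜).map φ)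

/-- The inverse image of `O(1)` along a morphism of graded rings defined everywhere is `O(1)`. -/
theorem nonempty_pullback_map_twist {κ : Type u} (T : κ → A) (hT : ∀ i, T i ∈ 𝒜 1)
    (covT : ∀ y : Proj 𝒜, ∃ i, y ∈ Proj.basicOpen 𝒜 (T i)) :
    Nonempty ((Scheme.Modules.pullback (Proj.map φ hφ)).obj (Twist.twist 𝒜 1) ≅ Twist.twist ℬ 1) := by
  let r := Proj.map φ hφ
  let U : κ → (Proj ℬ).Opens := fun i => r ⁻¹ᵁ Proj.basicOpen 𝒜 (T i)
  have hcov : ∀ y : Proj ℬ, ∃ i, y ∈ U i := fun y => covT (r y)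
  let e : ∀ i, Γ((Scheme.Modules.pullback r).obj (Twist.twist 𝒜 1), U i) := fun i =>
    AModX.res _ (le_top : U i ≤ ⊤) (ProjUPX.pullG r (hT i))
  let f : ∀ i, Γ(Twist.twist ℬ 1, U i) := fun i =>
    AModX.res _ (le_top : U i ≤ ⊤) (ProjUPX.sec ℬ (φ.2 (hT i)))
  have he : ∀ i, InvX.IsFrame (e i) := fun i => ProjUPX.isFrame_pullG r (hT i)
  have hf : ∀ i, InvX.IsFrame (f i) := fun i => ProjUPX.isFrame_sec ℬ (φ.2 (hT i))
  have hratio : ∀ i j, ∀ {W : (Proj ℬ).Opens} (h : W ≤ U i),
      AModX.res (Twist.twist ℬ 1) (le_top : W ≤ ⊤) (ProjUPX.sec ℬ (φ.2 (hT j))) =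
        ProjUPX.ratioOf r (hT j) (hT i) h •
          AModX.res (Twist.twist ℬ 1) (le_top : W ≤ ⊤) (ProjUPX.sec ℬ (φ.2 (hT i))) := by
    intro i j W h
    have h' : W ≤ Proj.basicOpen ℬ (φ (T i)) := h
    have h1 := congrArg (AModX.res (Twist.twist ℬ 1) h')
      (ProjUPX.sec_eq_smul ℬ (φ.2 (hT j)) (φ.2 (hT i)))
    simp only [AModX.res_smul] at h1
    erw [AModX.res_res, AModX.res_res] at h1
    refine h1.trans ?_
    congr 1
    have h2 := congr(($(Proj.awayToSection_comp_appLE φ hφ (hT i)))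
      (Away.mk 𝒜 (hT i) 1 (T j) (by rw [one_smul]; exact hT j)))
    simp only [CommRingCat.hom_comp, RingHom.coe_comp, Function.comp_apply, CommRingCat.hom_ofHom,
      Away.map_mk] at h2
    rw [ProjUPX.ratioOf]
    refine (congrArg (AModX.resR h) h2.symm).trans ?_
    exact congr(($((Proj.map φ hφ).appLE_map (by rfl) (homOfLE h).op)) _)
  have hc1 : ∀ (a b : κ) (W : (Proj ℬ).Opens) (ha : W ≤ U a) (hb : W ≤ U b) (g : Γ(Proj ℬ, W)),
      AModX.res _ hb (e b) = g • AModX.res _ ha (e a) → AModX.res _ hb (f b) = g • AModX.res _ ha (f a) := by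
    intro a b W ha hb g hg
    simp only [e, f, AModX.res_res] at hg ⊢
    rw [ProjUPX.res_pullG r (hT b) (hT a) ha] at hg
    have hfr := he a W ha
    rw [hratio a b ha, (he a).coord_unique (r := ProjUPX.ratioOf r (hT b) (hT a) ha) (r' := g) ha (by simpa only [e, AModX.res_res] using hg)]
  have hc2 : ∀ (a b : κ) (W : (Proj ℬ).Opens) (ha : W ≤ U a) (hb : W ≤ U b) (g : Γ(Proj ℬ, W)),
      AModX.res _ hb (f b) = g • AModX.res _ ha (f a) → AModX.res _ hb (e b) = g • AModX.res _ ha (e a) := by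
    intro a b W ha hb g hg
    simp only [e, f, AModX.res_res] at hg ⊢
    rw [hratio a b ha] at hg
    rw [ProjUPX.res_pullG r (hT b) (hT a) ha, (hf a).coord_unique (r := ProjUPX.ratioOf r (hT b) (hT a) ha) (r' := g) ha (by simpa only [f, AModX.res_res] using hg)]
  let F := InvX.ofFrames (U := U) (e := e) (n := f) hcov he hc1
  let G := InvX.ofFrames (U := U) (e := f) (n := e) hcov hf hc2
  refine ⟨⟨F, G, InvX.hom_ext_of_frames U hcov e he fun i => ?_, InvX.hom_ext_of_frames U hcov f hf fun i => ?_⟩⟩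
  · show G.app (U i) (F.app (U i) (e i)) = e i
    rw [InvX.ofFrames_app, InvX.ofFrames_app]
  · show F.app (U i) (G.app (U i) (f i)) = f i
    rw [InvX.ofFrames_app, InvX.ofFrames_app]

end Map

variable (n : ℕ)

section Ring

variable (R : Type u) [CommRing R]

/-- The coordinates. -/
def crd : ULift.{u} (Fin (n + 1)) → MvPolynomial (Fin (n + 1)) R := fun j => MvPolynomial.X j.down

theorem crd_mem (j : ULift.{u} (Fin (n + 1))) : crd n R j ∈ CohB1.polyGrading n R 1 :=
  MvPolynomial.isHomogeneous_X R j.down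

theorem crd_cov : ⨆ j, Proj.basicOpen (CohB1.polyGrading n R) (crd n R j) = ⊤ :=
  eq_top_iff.2 fun y _ => by
    obtain ⟨j, hj⟩ := PnCoh.Chow.cov_coord _ y
    exact TopologicalSpace.Opens.mem_iSup.2 ⟨j, hj⟩

theorem isInvertible_twistProjSpace (d : ℤ) : PicF.IsInvertible (Twist.twistProjSpace n R d) :=
  PnCoh.Finite.isInvertible_twist (crd n R) (crd_mem n R) (crd_cov n R) d

theorem cl_twistProjSpace_add (a b : ℤ) :
    PicF.cl (Twist.twistProjSpace n R a) * PicF.cl (Twist.twistProjSpace n R b) =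
      PicF.cl (Twist.twistProjSpace n R (a + b)) := by
  obtain ⟨e⟩ := PnCoh.Finite.twist_tensor_iso (𝒜 := CohB1.polyGrading n R) (crd n R) (crd_mem n R) (crd_cov n R) a b
  exact (PicGrp.cl_eq_cl_iff _ _).2 ⟨e⟩

theorem isUnit_cl_twist (d : ℤ) : IsUnit (PicF.cl (Twist.twistProjSpace n R d)) :=
  H23.PicMul.isUnit_cl (isInvertible_twistProjSpace n R d)

theorem cl_twistProjSpace_zero : PicF.cl (Twist.twistProjSpace n R 0) = 1 := by
  refine (isUnit_cl_twist n R 0).mul_left_cancel ?_
  rw [cl_twistProjSpace_add, mul_one, add_zero]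

/-- Change of coefficients carries `O(d)` to `O(d)`. -/
theorem pullCl_pmap_twist {R' : Type u} [CommRing R'] (f : R →+* R') (d : ℤ) :
    PicF.pullCl (ProjX.pmap n f) (PicF.cl (Twist.twistProjSpace n R d)) = PicF.cl (Twist.twistProjSpace n R' d) := by
  let F : ℤ → PicF.Cl (CohB1.ProjSpace n R') := fun d =>
    PicF.pullCl (ProjX.pmap n f) (PicF.cl (Twist.twistProjSpace n R d))
  let G : ℤ → PicF.Cl (CohB1.ProjSpace n R') := fun d => PicF.cl (Twist.twistProjSpace n R' d)
  have hF : ∀ a b, F a * F b = F (a + b) := fun a b => by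
    show PicF.pullCl _ _ * PicF.pullCl _ _ = _
    rw [← H23.PicMul.pullCl_mul, cl_twistProjSpace_add]
  have hG : ∀ a b, G a * G b = G (a + b) := fun a b => cl_twistProjSpace_add n R' a b
  have h1 : F 1 = G 1 := (PicGrp.cl_eq_cl_iff _ _).2 (nonempty_pullback_map_twist (ProjX.polyHom n f)
    (ProjX.irrelevant_polyHom n f) (crd n R) (crd_mem n R)
    fun y => TopologicalSpace.Opens.mem_iSup.1 ((crd_cov n R).ge (trivial : y ∈ (⊤ : TopologicalSpace.Opens _))))
  have h0 : F 0 = G 0 := by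
    show PicF.pullCl _ _ = PicF.cl _
    rw [cl_twistProjSpace_zero, cl_twistProjSpace_zero, H23.PicMul.pullCl_one]
  show F d = G d
  induction d using Int.induction_on with
  | zero => exact h0
  | succ i hi => rw [← hF, ← hG, hi, h1]
  | pred i hi =>
    have hu : IsUnit (G 1) := isUnit_cl_twist n R' 1
    refine hu.mul_right_cancel ?_
    calc F (-(i : ℤ) - 1) * G 1 = F (-(i : ℤ) - 1 + 1) := by rw [← h1, hF]
      _ = G (-(i : ℤ) - 1 + 1) := by rw [sub_add_cancel, hi]
      _ = _ := (hG _ _).symm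

end Ring

/-- The twists of `P^n_K`, `n ≥ 1`, are pairwise non-isomorphic. -/
theorem twist_injective {K : Type u} [Field K] (hn : 1 ≤ n) {a b : ℤ}
    (h : PicF.cl (Twist.twistProjSpace n K a) = PicF.cl (Twist.twistProjSpace n K b)) : a = b := by
  have key : ∀ e : ℕ, PicF.cl (Twist.twistProjSpace n K (e : ℤ)) = PicF.cl (Twist.twistProjSpace n K ((0 : ℕ) : ℤ)) →
      e = 0 := by
    intro e he
    by_contra hne
    obtain ⟨i⟩ := (PicGrp.cl_eq_cl_iff _ _).1 he
    obtain ⟨φ⟩ := S0843.result K n e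
    obtain ⟨φ₀⟩ := S0843.result K n 0
    have hdim : ∀ {d : ℕ}, (Coh.HH (CohB1.ProjSpace n K) (Twist.twistProjSpace n K (d : ℤ)) 0 ≃ₗ[K]
        ↥(MvPolynomial.homogeneousSubmodule (Fin (n + 1)) K d)) →
        Module.finrank K (Coh.HH (CohB1.ProjSpace n K) (Twist.twistProjSpace n K (d : ℤ)) 0) =
          Module.finrank K ↥(MvPolynomial.homogeneousSubmodule (Fin (n + 1)) K d) := fun ψ => ψ.finrank_eq
    have hiso : Module.finrank K ↥(MvPolynomial.homogeneousSubmodule (Fin (n + 1)) K e) =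
        Module.finrank K ↥(MvPolynomial.homogeneousSubmodule (Fin (n + 1)) K 0) := by
      rw [← hdim φ, ← hdim φ₀]
      exact (S2926.hhIso K i 0).finrank_eq
    rw [(ComodLib.GradedAug.finrank_homogeneous (k := K) (n + 1) e).2, (ComodLib.GradedAug.finrank_homogeneous (k := K) (n + 1) 0).2,
      Nat.choose_zero_right] at hiso
    rw [Nat.choose_eq_one_iff] at hiso
    omega
  rcases le_total b a with hle | hle
  · obtain ⟨e, he⟩ := Int.eq_ofNat_of_zero_le (sub_nonneg.2 hle)
    have h' := congrArg (· * PicF.cl (Twist.twistProjSpace n K (-b))) h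
    simp only [cl_twistProjSpace_add] at h'
    rw [← sub_eq_add_neg, he, ← sub_eq_add_neg, sub_self] at h'
    have := key e h'
    omega
  · obtain ⟨e, he⟩ := Int.eq_ofNat_of_zero_le (sub_nonneg.2 hle)
    have h' := congrArg (· * PicF.cl (Twist.twistProjSpace n K (-a))) h.symm
    simp only [cl_twistProjSpace_add] at h'
    rw [← sub_eq_add_neg, he, ← sub_eq_add_neg, sub_self] at h'
    have := key e h'
    omega

end Groth.Agent.PnPic
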