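import Groth.Agent.PnPic.Units
import Groth.Agent.PnCoh.TwistSections
import Groth.Agent.PnCoh.Chow.PullFrame
import Groth.Agent.InvUfdLib.Trivial
import Groth.Agent.H23.SeesawGlobal
import Groth.Agent.TwistX.PConePull

/-!
# Invertible modules on projective space over a factorial ring
-/

set_option autoImplicit false
set_option backward.isDefEq.respectTransparency false
set_option backward.isDefEq.respectTransparency.types false
set_option linter.style.haveILetI false
set_option maxHeartbeats 2000000

universe u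

open CategoryTheory Limits AlgebraicGeometry MvPolynomial TopologicalSpace Opposite

namespace Groth.Agent.PnPic

open Groth.Agent Groth.Agent.PnCoh

attribute [local instance] MvPolynomial.gradedAlgebra

/-- An invertible module has a frame on an affine open with factorial functions. -/
theorem exists_frame_of_ufd {X : Scheme.{u}} {L : X.Modules} (hL : PicF.IsInvertible L) {U : X.Opens}
    (hU : IsAffineOpen U) [IsDomain Γ(X, U)] [UniqueFactorizationMonoid Γ(X, U)] :
    ∃ e : Γ(L, U), InvX.IsFrame e := by
  let S := Spec Γ(X, U)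
  let j := (⊤ : S.Opens).ι ≫ hU.fromSpec
  obtain ⟨φ⟩ := InvUfdLib.nonempty_iso (R := Γ(X, U)) ⊤ ((Scheme.Modules.pullback j).obj L)
    (PicClLib.isInvertible_pullback _ hL)
  haveI : IsIso (⊤ : S.Opens).ι := inferInstanceAs (IsIso (Scheme.topIso S).hom)
  have h : H23.TrivBasic.Triv ((Scheme.Modules.pullback hU.fromSpec).obj L) :=
    H23.SeesawGlobal.triv_of_factor (inv (⊤ : S.Opens).ι) (IsIso.inv_hom_id_assoc _ _) ⟨φ⟩
  obtain ⟨e, he⟩ := H23.SeesawGlobal.exists_frame_of_triv hU.fromSpec h
  exact ⟨AModX.res L hU.opensRange_fromSpec.ge e, he.res _⟩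

variable {ι : Type} [Fintype ι] {R : Type u} [CommRing R] [IsDomain R] [UniqueFactorizationMonoid R]

local notation "P" => Proj (homogeneousSubmodule ι R)

/-- A standard chart. -/
noncomputable abbrev ch (i : ι) : ι →₀ ℕ := Finsupp.single i 1

theorem ch_ne (i : ι) : ch i ≠ 0 := Finsupp.single_ne_zero.2 one_ne_zero

theorem ch_add_ne (i j : ι) : ch i + ch j ≠ 0 := fun h => ch_ne i (by
  ext k; have := DFunLike.congr_fun h k; simp at this ⊢; omega)

theorem exists_frame_chart (L : (Proj (homogeneousSubmodule ι R)).Modules) (hL : PicF.IsInvertible L) (i : ι) :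
    ∃ e : Γ(L, mOpen R (ch i)), InvX.IsFrame e := by
  haveI : IsDomain Γ(P, mOpen R (ch i)) := MulEquiv.isDomain _ (chartEquiv i).symm.toMulEquiv
  haveI : UniqueFactorizationMonoid Γ(P, mOpen R (ch i)) :=
    (chartEquiv (R := R) i).toMulEquiv.uniqueFactorizationMonoid inferInstance
  exact exists_frame_of_ufd hL (isAffineOpen_mOpen (ch_ne i))

theorem le_left (i j : ι) : mOpen R (ch i + ch j) ≤ mOpen R (ch i) := (mOpen_add _ _).trans_le inf_le_left

theorem le_right (i j : ι) : mOpen R (ch i + ch j) ≤ mOpen R (ch j) := (mOpen_add _ _).trans_le inf_le_right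

/-- The exponent of the ratio of two coordinates. -/
noncomputable def ratioExpo (i j : ι) (a : ℤ) : Expo ι := Finsupp.single j a - Finsupp.single i a

theorem eq_ratioExpo {i j : ι} {e : Expo ι} (he : e ∈ supp ((ch i + ch j).support : Set ι))
    (hne : -e ∈ supp ((ch i + ch j).support : Set ι)) : e = ratioExpo i j (e j) := by
  classical
  have h0 : ∀ k, k ≠ i → k ≠ j → e k = 0 := fun k hki hkj => by
    have hk : k ∉ ((ch i + ch j).support : Set ι) := by
      simp [Finsupp.single_apply, Ne.symm hki, Ne.symm hkj]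
    rcases lt_trichotomy (e k) 0 with h | h | h
    · exact absurd (he.2 k h) hk
    · exact h
    · exact absurd (hne.2 k (by simpa using h)) hk
  have hsum := he.1
  rw [Finsupp.sum_fintype _ _ (fun _ => rfl)] at hsum
  ext k
  by_cases hij : i = j
  · subst hij
    simp only [ratioExpo, Finsupp.sub_apply, sub_self]
    by_cases hk : k = i
    · subst hk
      rw [Finset.sum_eq_single k (fun l _ hl => h0 l hl hl) (fun h => absurd (Finset.mem_univ _) h)] at hsum
      exact hsum
    · exact h0 k hk hk
  · rw [Finset.sum_eq_add i j hij (fun l _ hl => h0 l hl.1 hl.2) (fun h => absurd (Finset.mem_univ _) h)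
      (fun h => absurd (Finset.mem_univ _) h)] at hsum
    simp only [ratioExpo, Finsupp.sub_apply, Finsupp.single_apply]
    by_cases hki : k = i
    · subst hki; rw [if_neg (Ne.symm hij), if_pos rfl]; omega
    · by_cases hkj : k = j
      · subst hkj; rw [if_pos rfl, if_neg (Ne.symm hki)]; omega
      · rw [if_neg (Ne.symm hkj), if_neg (Ne.symm hki)]; rw [h0 k hki hkj]; rfl

variable {L : (Proj (homogeneousSubmodule ι R)).Modules}

/-- The change of frames is a monomial. -/
theorem exists_transition {i j : ι} {ei : Γ(L, mOpen R (ch i))} {ej : Γ(L, mOpen R (ch j))}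
    (hi : InvX.IsFrame ei) (hj : InvX.IsFrame ej) :
    ∃ (G : Γ(P, mOpen R (ch i + ch j))) (a : ℤ) (c : R), IsUnit c ∧
      AModX.res L (le_right i j) ej = G • AModX.res L (le_left i j) ei ∧
      secL (ch i + ch j) (ch_add_ne i j) G = AddMonoidAlgebra.single (ratioExpo i j a) c := by
  obtain ⟨G, hG⟩ := hi.exists_coord (le_left i j) (AModX.res L (le_right i j) ej)
  obtain ⟨H, hH⟩ := hj.exists_coord (le_right i j) (AModX.res L (le_left i j) ei)
  have hGH : G * H = 1 := hj.coord_unique (le_right i j) (by
    rw [one_smul, mul_smul, ← hH, ← hG])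
  let χ := secL (R := R) (ch i + ch j) (ch_add_ne i j)
  have h1 : χ G * χ H = 1 := by rw [← map_mul, hGH, map_one]
  obtain ⟨e, c, hc, he, d, hd, hcd⟩ := eq_single_of_mul_eq_one h1
  have hmem : ∀ (x : Γ(P, mOpen R (ch i + ch j))) (e : Expo ι) (c : R), c ≠ 0 →
      χ x = AddMonoidAlgebra.single e c → e ∈ supp ((ch i + ch j).support : Set ι) := fun x e c hc0 hx => by
    classical
    by_contra hn
    have := AddMonoidAlgebra.mem_supported'.1 (secL_mem (ch i + ch j) (ch_add_ne i j) x) e hn
    rw [show secL (ch i + ch j) (ch_add_ne i j) x = AddMonoidAlgebra.single e c from hx,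
      AddMonoidAlgebra.coeff_single, Finsupp.single_eq_same] at this
    exact hc0 this
  have hd0 : d ≠ 0 := right_ne_zero_of_mul_eq_one hcd
  refine ⟨G, e j, c, hc, hG, ?_⟩
  rw [← eq_ratioExpo (hmem G e c hc.ne_zero he) (hmem H (-e) d hd0 hd)]
  exact he

theorem secL_res_le {g g' : ι →₀ ℕ} (h : g ≤ g') (hg : g ≠ 0) (hg' : g' ≠ 0) (hle : mOpen R g' ≤ mOpen R g)
    (x : Γ(P, mOpen R g)) : secL g' hg' (AModX.resR hle x) = secL g hg x :=
  secL_res (g' - g) (add_tsub_cancel_of_le h).symm hg hg' (homOfLE hle) x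

theorem single_pow_twist (d : ℤ) (i : ι) :
    secTw d (ch i) (ch_ne i) (Chow.twF (mem_homogeneous_X (R := R) i) d) =
      AddMonoidAlgebra.single (Finsupp.single i d) 1 := by
  have hs : someIdx (ch_ne i) = i := by
    have h := someIdx_mem (ch_ne i)
    rw [Finsupp.support_single _ one_ne_zero, Finset.mem_singleton] at h
    exact h
  have h1 := secTw_triv (R := R) d (ch i) (ch_ne i) 1
  rw [show secL (R := R) (ch i) (ch_ne i) 1 = 1 from map_one _, mul_one] at h1
  have key : ∀ (k : ι) (hk : k ∈ (ch i).support), k = i →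
      (triv (mem_homogeneous_X k) d (nonVan_mOpen (R := R) hk)) 1 = Chow.twF (mem_homogeneous_X (R := R) i) d := by
    rintro k hk rfl
    exact one_smul (Twist.O (𝒜 := homogeneousSubmodule ι R) (op (mOpen R (ch k)))) (twPow (mem_homogeneous_X k) d (nonVan_mOpen (R := R) hk))
  rw [key _ (someIdx_mem (ch_ne i)) hs, hs] at h1
  exact h1

theorem secTw_smul (d : ℤ) (g : ι →₀ ℕ) (hg : g ≠ 0) (c : Γ(P, mOpen R g)) (f : TwSec R d g) :
    secTw d g hg (c • f) = secL g hg c * secTw d g hg f := by
  obtain ⟨a, rfl⟩ := exists_triv_eq d g hg f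
  have h : c • triv (mem_homogeneous_X (R := R) (someIdx hg)) d (nonVan_mOpen (someIdx_mem hg)) a =
      triv (mem_homogeneous_X (R := R) (someIdx hg)) d (nonVan_mOpen (someIdx_mem hg)) (c * a) :=
    ((triv (mem_homogeneous_X (R := R) (someIdx hg)) d (nonVan_mOpen (someIdx_mem hg))).map_smul c a).symm
  rw [h, secTw_triv, secTw_triv, map_mul, mul_left_comm]

/-- The change of frames of the twisting sheaf. -/
theorem transition_twist (d : ℤ) (i j : ι) {G : Γ(P, mOpen R (ch i + ch j))}
    (hG : secL (ch i + ch j) (ch_add_ne i j) G = AddMonoidAlgebra.single (ratioExpo i j d) 1) :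
    AModX.res (Twist.twist (homogeneousSubmodule ι R) d) (le_right i j) (Chow.twF (mem_homogeneous_X j) d) =
      G • AModX.res (Twist.twist (homogeneousSubmodule ι R) d) (le_left i j) (Chow.twF (mem_homogeneous_X i) d) := by
  refine secTw_injective d (ch i + ch j) (ch_add_ne i j) ?_
  refine Eq.trans ?_ (secTw_smul d _ (ch_add_ne i j) G _).symm
  have hi := secTw_res d (ch j) rfl (ch_ne i) (ch_add_ne i j) (homOfLE (le_left i j))
    (Chow.twF (mem_homogeneous_X (R := R) i) d)
  have hj := secTw_res d (ch i) (add_comm (ch i) (ch j)) (ch_ne j) (ch_add_ne i j) (homOfLE (le_right i j))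
    (Chow.twF (mem_homogeneous_X (R := R) j) d)
  refine hj.trans ?_
  refine Eq.trans ?_ (congrArg (secL (ch i + ch j) (ch_add_ne i j) G * ·) hi).symm
  rw [single_pow_twist, single_pow_twist, hG, AddMonoidAlgebra.single_mul_single, one_mul, ratioExpo, sub_add_cancel]

/-- Every invertible module is a twisting sheaf. -/
theorem exists_twist (L : (Proj (homogeneousSubmodule ι R)).Modules) (hL : PicF.IsInvertible L) (o : ι) :
    ∃ d : ℤ, Nonempty (L ≅ Twist.twist (homogeneousSubmodule ι R) d) := by
  classical
  choose e he using exists_frame_chart L hL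
  choose G a c hc hG hGs using fun i j => exists_transition (he i) (he j)
  -- the cocycle identity
  have hcoc : ∀ i j k : ι, AddMonoidAlgebra.single (ratioExpo i k (a i k)) (c i k) =
      (AddMonoidAlgebra.single (ratioExpo i j (a i j)) (c i j) * AddMonoidAlgebra.single (ratioExpo j k (a j k)) (c j k) :
        Laur ι R) := by
    intro i j k
    let g := ch i + ch j + ch k
    have hg : g ≠ 0 := fun h => ch_ne i (by
      ext l; have := DFunLike.congr_fun h l; simp [g] at this ⊢; omega)
    have hij : ch i + ch j ≤ g := le_self_add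
    have hjk : ch j + ch k ≤ g := by simp only [g, add_assoc]; exact le_add_self
    have hik : ch i + ch k ≤ g := add_le_add le_self_add le_rfl
    have mle : ∀ {g₁ : ι →₀ ℕ}, g₁ ≤ g → mOpen R g ≤ mOpen R g₁ := fun {g₁} h => by
      conv_lhs => rw [← add_tsub_cancel_of_le h]
      exact (mOpen_add _ _).trans_le inf_le_left
    have e1 := congrArg (AModX.res L (mle hij)) (hG i j)
    have e2 := congrArg (AModX.res L (mle hjk)) (hG j k)
    have e3 := congrArg (AModX.res L (mle hik)) (hG i k)
    rw [AModX.res_smul, AModX.res_res, AModX.res_res] at e1 e2 e3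
    have h : AModX.resR (mle hik) (G i k) = AModX.resR (mle hij) (G i j) * AModX.resR (mle hjk) (G j k) :=
      (he i).coord_unique ((mle hij).trans (le_left i j)) (by
        rw [← e3, mul_comm, mul_smul, ← e1, ← e2])
    have h' := congrArg (secL g hg) h
    rwa [map_mul, secL_res_le hik (ch_add_ne i k) hg, secL_res_le hij (ch_add_ne i j) hg,
      secL_res_le hjk (ch_add_ne j k) hg, hGs, hGs, hGs] at h'
  have hexp : ∀ i j k : ι, ratioExpo i k (a i k) = ratioExpo i j (a i j) + ratioExpo j k (a j k) ∧
      c i k = c i j * c j k := by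
    intro i j k
    have h := congrArg AddMonoidAlgebra.coeff (hcoc i j k)
    rw [AddMonoidAlgebra.single_mul_single, AddMonoidAlgebra.coeff_single, AddMonoidAlgebra.coeff_single] at h
    rcases (Finsupp.single_eq_single_iff _ _ _ _).1 h with h | ⟨h0, -⟩
    · exact h
    · exact absurd h0 (hc i k).ne_zero
  -- one exponent for all pairs
  obtain ⟨d, hd⟩ : ∃ d : ℤ, ∀ j, j ≠ o → a o j = d := by
    by_cases h : ∃ j, j ≠ o
    · obtain ⟨j₀, hj₀⟩ := h
      refine ⟨a o j₀, fun j hj => ?_⟩
      by_cases hjj : j = j₀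
      · rw [hjj]
      have h := DFunLike.congr_fun (hexp o j₀ j).1 o
      simp only [ratioExpo, Finsupp.add_apply, Finsupp.sub_apply, Finsupp.single_apply, if_neg hj, if_neg hj₀,
        if_pos rfl] at h
      simpa using h
    · exact ⟨0, fun j hj => absurd ⟨j, hj⟩ h⟩
  have ho : ∀ j, ratioExpo o j (a o j) = ratioExpo o j d := fun j => by
    by_cases hj : j = o
    · subst hj; simp [ratioExpo]
    · rw [hd j hj]
  have hall : ∀ i j, ratioExpo i j (a i j) = ratioExpo i j d := fun i j => by
    have h := (hexp o i j).1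
    rw [ho, ho] at h
    rw [← sub_eq_iff_eq_add'] at h
    rw [← h]
    simp only [ratioExpo]
    abel
  -- normalised frames
  have hu : ∀ i, ∃ u : Γ(P, mOpen R (ch i)), IsUnit u ∧
      secL (ch i) (ch_ne i) u * AddMonoidAlgebra.single 0 (c o i) = 1 := fun i => by
    obtain ⟨v, hv⟩ := (hc o i).exists_left_inv
    refine ⟨(constSec (ch i)).hom v, (IsUnit.of_mul_eq_one _ hv).map (constSec (ch i)).hom, ?_⟩
    rw [secL_constSec, AddMonoidAlgebra.single_mul_single, add_zero, hv]
    rfl
  choose u hu1 hu2 using hu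
  refine ⟨d, TwistX.nonempty_iso_of_frames (ι := ULift.{u} ι) (fun i => mOpen R (ch i.down)) ?_
    (fun i => u i.down • e i.down) (fun i => Chow.twF (mem_homogeneous_X i.down) d)
    (fun i => (he i.down).isUnit_smul (hu1 i.down)) (fun i => Chow.isFrame_twF _ d) ?_⟩
  · intro x
    have hx : x ∈ (⨆ i, mOpen R (ch i) : (Proj (homogeneousSubmodule ι R)).Opens) :=
      (iSup_mOpen_single (ι := ι) (R := R)).ge trivial
    obtain ⟨i, hi⟩ := Opens.mem_iSup.1 hx
    exact ⟨⟨i⟩, hi⟩
  · rintro ⟨i⟩ ⟨j⟩ W ha hb g hg
    obtain ⟨T, hT⟩ : ∃ T : Γ(P, mOpen R (ch i + ch j)),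
        secL (ch i + ch j) (ch_add_ne i j) T = AddMonoidAlgebra.single (ratioExpo i j d) 1 := by
      obtain ⟨v, hv⟩ := (hc i j).exists_left_inv
      refine ⟨(constSec (ch i + ch j)).hom v * G i j, ?_⟩
      rw [map_mul, secL_constSec, hGs, hall, AddMonoidAlgebra.single_mul_single, zero_add, hv]
    have hle : W ≤ mOpen R (ch i + ch j) := (le_inf ha hb).trans_eq (mOpen_add _ _).symm
    have hkey : AModX.res L (le_right i j) (u j • e j) = T • AModX.res L (le_left i j) (u i • e i) := by
      rw [AModX.res_smul, AModX.res_smul, hG, ← mul_smul, ← mul_smul]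
      congr 1
      refine secL_injective (ch i + ch j) (ch_add_ne i j) ?_
      rw [map_mul, map_mul, secL_res_le le_self_add (ch_ne i), secL_res_le le_add_self (ch_ne j), hT, hGs, hall]
      have huo : ∀ k, secL (ch k) (ch_ne k) (u k) * AddMonoidAlgebra.single 0 (c o k) = 1 := hu2
      have hunit : IsUnit (AddMonoidAlgebra.single (0 : Expo ι) (c o j) : Laur ι R) :=
        IsUnit.of_mul_eq_one_right _ (huo j)
      refine hunit.mul_right_cancel ?_
      calc secL (ch j) (ch_ne j) (u j) * AddMonoidAlgebra.single (ratioExpo i j d) (c i j) *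
            AddMonoidAlgebra.single 0 (c o j) =
          (secL (ch j) (ch_ne j) (u j) * AddMonoidAlgebra.single 0 (c o j)) *
            AddMonoidAlgebra.single (ratioExpo i j d) (c i j) := by ring
        _ = AddMonoidAlgebra.single (ratioExpo i j d) (c i j) := by rw [huo, one_mul]
        _ = (secL (ch i) (ch_ne i) (u i) * AddMonoidAlgebra.single 0 (c o i)) *
            AddMonoidAlgebra.single (ratioExpo i j d) (c i j) := by rw [huo, one_mul]
        _ = secL (ch i) (ch_ne i) (u i) * AddMonoidAlgebra.single (ratioExpo i j d) (c o j) := by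
          rw [mul_assoc, AddMonoidAlgebra.single_mul_single, zero_add, (hexp o i j).2]
        _ = AddMonoidAlgebra.single (ratioExpo i j d) 1 * secL (ch i) (ch_ne i) (u i) *
            AddMonoidAlgebra.single 0 (c o j) := by
          rw [mul_comm (AddMonoidAlgebra.single (ratioExpo i j d) (1 : R)), mul_assoc,
            AddMonoidAlgebra.single_mul_single, add_zero, one_mul]
    have h1 := congrArg (AModX.res L hle) hkey
    rw [AModX.res_res] at h1
    replace h1 := h1.trans ((AModX.res_smul (M := L) hle T _).trans (congrArg _ (AModX.res_res (M := L) (le_left i j) hle _)))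
    have hgT : g = AModX.resR hle T :=
      ((he i).isUnit_smul (hu1 i)).coord_unique ha (hg.symm.trans h1)
    have h2 := congrArg (AModX.res (Twist.twist (homogeneousSubmodule ι R) d) hle) (transition_twist d i j hT)
    rw [AModX.res_res] at h2
    replace h2 := h2.trans ((AModX.res_smul (M := Twist.twist (homogeneousSubmodule ι R) d) hle T _).trans
      (congrArg _ (AModX.res_res (M := Twist.twist (homogeneousSubmodule ι R) d) (le_left i j) hle _)))
    rw [hgT]
    exact h2

end Groth.Agent.PnPic
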