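import Groth.Agent.PnPic.Over
import Groth.Agent.PnPic.Twist

/-!
# The Picard group of projective space over a connected base
-/

set_option autoImplicit false
set_option linter.style.haveILetI false
set_option backward.isDefEq.respectTransparency false
set_option backward.isDefEq.respectTransparency.types false
set_option maxHeartbeats 1000000

universe u

open CategoryTheory CategoryTheory.Limits AlgebraicGeometry
open CohB1 (ProjSpace ProjSpaceOver)

noncomputable section

namespace Groth.Agent.PnPic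

open Groth.Agent Groth.Agent.H23
open scoped Groth.Agent.H23.PicMul

variable {n : ℕ} {S : Scheme.{u}}

/-- `O(d)` restricts to `O(d)` on a point. -/
theorem pullCl_ptMap_twistOver {R : Type u} [CommRing R] (x : Spec (CommRingCat.of R) ⟶ S) (d : ℤ) :
    PicF.pullCl (ptMap n x) (PicF.cl (Twist.twistOver n S d)) = PicF.cl (Twist.twistProjSpace n R d) := by
  show PicF.pullCl (ptMap n x) (PicF.pullCl (pullback.fst (ProjSpace.toSpec n (ULift.{u} ℤ))
    (specULiftZIsTerminal.from S)) (PicF.cl (Twist.twistProjSpace n (ULift.{u} ℤ) d))) = _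
  rw [PicClLib.pullCl_comp, ptMap_fst, pullCl_pmap_twist]

/-- The base does not change a point. -/
theorem pullCl_ptMap_base {K : Type u} [Field K] (x : Spec (CommRingCat.of K) ⟶ S) {L : S.Modules}
    (hL : PicF.IsInvertible L) :
    PicF.pullCl (ptMap n x) (PicF.pullCl (ProjSpaceOver.toBase n S) (PicF.cl L)) = 1 := by
  rw [PicClLib.pullCl_comp, ptMap_toBase, ← PicClLib.pullCl_comp,
    SeesawGen.cl_eq_one_of_field (PicClLib.isInvertibleCl_pullCl x ⟨L, rfl, hL⟩), PicMul.pullCl_one]

/-- Every invertible module is `π^* L ⊗ O(d)`. -/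
theorem exists_twistOver [ConnectedSpace S] (N : (ProjSpaceOver n S).Modules) (hN : PicF.IsInvertible N) :
    ∃ (L : S.Modules) (d : ℤ), PicF.IsInvertible L ∧ Nonempty (N ≅
      CohB1.tensorMod ((Scheme.Modules.pullback (ProjSpaceOver.toBase n S)).obj L) (Twist.twistOver n S d)) := by
  let s₀ : S := Classical.arbitrary S
  let K := S.residueField s₀
  let x : Spec (CommRingCat.of K) ⟶ S := S.fromSpecResidueField s₀
  let c := ptMap n x
  obtain ⟨d, ⟨i⟩⟩ := exists_twist (ι := Fin (n + 1)) (R := K) ((Scheme.Modules.pullback c).obj N)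
    (PicClLib.isInvertible_pullback _ hN) 0
  have hd : PicF.pullCl c (PicF.cl N) = PicF.cl (Twist.twistProjSpace n K d) := (PicGrp.cl_eq_cl_iff _ _).2 ⟨i⟩
  let N' := CohB1.tensorMod N (Twist.twistOver n S (-d))
  have hN' : PicF.IsInvertible N' := InvX.isInvertible_tensorMod hN (RegSheaf7.isInvertible_twistOver (-d))
  have hcl : PicF.cl N' = PicF.cl N * PicF.cl (Twist.twistOver n S (-d)) := rfl
  have hs : SeesawGlobal.FieldTriv (ProjSpaceOver.toBase n S) N' s₀ := by
    refine (SeesawGlobal.fieldTriv_iff_residueField _).2 ?_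
    refine SeesawGlobal.triv_of_factor (isPullback_ptMap x).isoPullback.inv
      (isPullback_ptMap x).isoPullback_inv_fst ?_
    refine (PicGrp.cl_eq_cl_iff _ _).1 ?_
    show PicF.pullCl c (PicF.cl N') = 1
    rw [hcl, PicMul.pullCl_mul, hd, pullCl_ptMap_twistOver, cl_twistProjSpace_add, add_neg_cancel,
      cl_twistProjSpace_zero]
  obtain ⟨L, hL, hiso⟩ := SeesawGen.exists_pullback_of_h1 hN' (h1Zero_toBase n S) (bijective_app_toBase n S) hs
  refine ⟨L, d, hL, (PicGrp.cl_eq_cl_iff _ _).1 ?_⟩
  show PicF.cl N = PicF.pullCl (ProjSpaceOver.toBase n S) (PicF.cl L) * PicF.cl (Twist.twistOver n S d)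
  rw [show PicF.pullCl (ProjSpaceOver.toBase n S) (PicF.cl L) = PicF.cl N' from ((PicGrp.cl_eq_cl_iff _ _).2 hiso).symm,
    hcl, _root_.mul_assoc, RegSheaf7.cl_twistOver_add, neg_add_cancel]
  have h0 : PicF.cl (Twist.twistOver n S 0) = 1 := by
    refine (PicMul.isUnit_cl (RegSheaf7.isInvertible_twistOver (n := n) (T := S) 0)).mul_left_cancel ?_
    rw [RegSheaf7.cl_twistOver_add, _root_.mul_one, add_zero]
  rw [h0, _root_.mul_one]

/-- The degree and the module on the base are unique. -/
theorem twistOver_unique [Nonempty S] (hn : 1 ≤ n) {L L' : S.Modules} {d d' : ℤ} (hL : PicF.IsInvertible L)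
    (hL' : PicF.IsInvertible L')
    (h : Nonempty (CohB1.tensorMod ((Scheme.Modules.pullback (ProjSpaceOver.toBase n S)).obj L) (Twist.twistOver n S d) ≅
      CohB1.tensorMod ((Scheme.Modules.pullback (ProjSpaceOver.toBase n S)).obj L') (Twist.twistOver n S d'))) :
    d = d' ∧ Nonempty (L ≅ L') := by
  have he : PicF.pullCl (ProjSpaceOver.toBase n S) (PicF.cl L) * PicF.cl (Twist.twistOver n S d) =
      PicF.pullCl (ProjSpaceOver.toBase n S) (PicF.cl L') * PicF.cl (Twist.twistOver n S d') :=
    (PicGrp.cl_eq_cl_iff _ _).2 h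
  let s₀ : S := Classical.arbitrary S
  let x : Spec (CommRingCat.of (S.residueField s₀)) ⟶ S := S.fromSpecResidueField s₀
  have hd : d = d' := by
    have h' := congrArg (PicF.pullCl (ptMap n x)) he
    rw [PicMul.pullCl_mul, PicMul.pullCl_mul, pullCl_ptMap_base x hL, pullCl_ptMap_base x hL', _root_.one_mul,
      _root_.one_mul, pullCl_ptMap_twistOver, pullCl_ptMap_twistOver] at h'
    exact twist_injective n hn h'
  refine ⟨hd, ?_⟩
  subst hd
  obtain ⟨e⟩ := (PicGrp.cl_eq_cl_iff _ _).1 ((PicMul.isUnit_cl (RegSheaf7.isInvertible_twistOver d)).mul_right_cancel he)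
  let p := ProjSpaceOver.toBase n S
  have h₁ := PullPush.isIso_unit_of_isFinLocFree p (bijective_app_toBase n S) L (PullPush.isFinLocFree_of_isInvertible hL)
  have h₂ := PullPush.isIso_unit_of_isFinLocFree p (bijective_app_toBase n S) L' (PullPush.isFinLocFree_of_isInvertible hL')
  exact ⟨(@asIso _ _ _ _ ((Scheme.Modules.pullbackPushforwardAdjunction p).unit.app L) h₁) ≪≫
    (Scheme.Modules.pushforward p).mapIso e ≪≫
    (@asIso _ _ _ _ ((Scheme.Modules.pullbackPushforwardAdjunction p).unit.app L') h₂).symm⟩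

end Groth.Agent.PnPic
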