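import Groth.Agent.SeesawGen.ProductPic
import Groth.Agent.PnPic.Ufd
import Groth.Agent.ProjX.Chart
import Groth.Agent.ProjGen7.FlatBase
import Groth.Agent.H23.PnChart
import Groth.Agent.PnCoh.Cech
import Groth.Agent.PnCoh.Global
import Groth.Agent.PnCoh.Chow.Relative
import Groth.Agent.FlatMisc.SteinUC
import Groth.Agent.S0843

/-!
# Fibres and functions of `P^n_S`
-/

set_option autoImplicit false
set_option linter.style.haveILetI false
set_option backward.isDefEq.respectTransparency false
set_option backward.isDefEq.respectTransparency.types false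
set_option maxHeartbeats 1000000

universe u

open CategoryTheory CategoryTheory.Limits AlgebraicGeometry TopologicalSpace Opposite
open CohB1 (ProjSpace ProjSpaceOver)

noncomputable section

namespace Groth.Agent.PnPic

open Groth.Agent

variable {n : ℕ} {S : Scheme.{u}}

/-- The comparison of `P^n_R` with `P^n_S` over an `R`-point of `S`. -/
def ptMap (n : ℕ) {R : Type u} [CommRing R] (x : Spec (CommRingCat.of R) ⟶ S) : ProjSpace n R ⟶ ProjSpaceOver n S :=
  pullback.lift (ProjX.pmap n (ProjX.zto R)) (ProjSpace.toSpec n R ≫ x) (specULiftZIsTerminal.hom_ext _ _)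

theorem ptMap_fst {R : Type u} [CommRing R] (x : Spec (CommRingCat.of R) ⟶ S) :
    ptMap n x ≫ pullback.fst (ProjSpace.toSpec n (ULift.{u} ℤ)) (specULiftZIsTerminal.from S) =
      ProjX.pmap n (ProjX.zto R) :=
  pullback.lift_fst _ _ _

theorem ptMap_toBase {R : Type u} [CommRing R] (x : Spec (CommRingCat.of R) ⟶ S) :
    ptMap n x ≫ ProjSpaceOver.toBase n S = ProjSpace.toSpec n R ≫ x :=
  pullback.lift_snd _ _ _

theorem isPullback_ptMap {R : Type u} [CommRing R] (x : Spec (CommRingCat.of R) ⟶ S) :
    IsPullback (ptMap n x) (ProjSpace.toSpec n R) (ProjSpaceOver.toBase n S) x := by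
  refine IsPullback.of_right ?_ (ptMap_toBase x)
    (IsPullback.of_hasPullback (ProjSpace.toSpec n (ULift.{u} ℤ)) (specULiftZIsTerminal.from S))
  rw [ptMap_fst, specULiftZIsTerminal.hom_ext (x ≫ _) (Spec.map (CommRingCat.ofHom (ProjX.zto R)))]
  exact ProjX.isPullback_pmap n (ProjX.zto R)

instance isProper_toBase (n : ℕ) (S : Scheme.{u}) : IsProper (ProjSpaceOver.toBase n S) :=
  haveI := PnCoh.Chow.isProper_toSpec n (ULift.{u} ℤ)
  MorphismProperty.of_isPullback (IsPullback.of_hasPullback (ProjSpace.toSpec n (ULift.{u} ℤ))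
    (specULiftZIsTerminal.from S)) (inferInstance : IsProper (ProjSpace.toSpec n (ULift.{u} ℤ)))

instance geometricallyIntegral_toBase (n : ℕ) (S : Scheme.{u}) : GeometricallyIntegral (ProjSpaceOver.toBase n S) := by
  refine ⟨fun K _ x Z fst snd h => ?_⟩
  haveI := H23.PnChart.isIntegral_projSpace n K
  let e := h.isoIsPullback _ _ (isPullback_ptMap (n := n) x)
  haveI : Nonempty Z := ⟨e.inv (Classical.arbitrary (ProjSpace n K))⟩
  exact isIntegral_of_isOpenImmersion e.hom

theorem h1Zero_toBase (n : ℕ) (S : Scheme.{u}) : SeesawGen.H1Zero (ProjSpaceOver.toBase n S) := by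
  intro K _ x
  let T := ProjSpace n K
  let t := ProjSpace.toSpec n K
  let X' := pullback (ProjSpaceOver.toBase n S) x
  let e := (isPullback_ptMap (n := n) x).isoPullback
  letI : T.Over (Spec (CommRingCat.of K)) := ⟨t⟩
  letI : X'.Over (Spec (CommRingCat.of K)) := ⟨pullback.snd _ _⟩
  haveI : IsProper t := PnCoh.Chow.isProper_toSpec n K
  haveI : CompactSpace T := QuasiCompact.compactSpace_of_compactSpace t
  haveI : T.IsSeparated := ⟨by rw [← Limits.terminal.comp_from t]; infer_instance⟩
  have hpb : IsPullback e.inv (pullback.snd (ProjSpaceOver.toBase n S) x) t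
      (Spec.map (CommRingCat.ofHom (algebraMap K K))) := by
    rw [show (CommRingCat.ofHom (algebraMap K K)) = 𝟙 (CommRingCat.of K) from rfl, Spec.map_id]
    exact IsPullback.of_horiz_isIso ⟨by rw [Category.comp_id]; exact (isPullback_ptMap x).isoPullback_inv_snd⟩
  haveI : Flat (T ↘ Spec (CommRingCat.of K)) := inferInstanceAs (Flat t)
  obtain ⟨φ⟩ := QCoh.nonempty_HH_bc_of_flat (A := K) (X := T) (F := Coh.structureModule T)
    (ProjUPX.isQCoh_of_isInvertible InvX.isInvertible_structureModule)
    (H23.Seesaw.isFlatOver_of_isInvertible _ InvX.isInvertible_structureModule) (fun p => inferInstance)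
    (B := K) (X' := X') e.inv hpb 1
  obtain ⟨i⟩ := PicClLib.nonempty_pullback_structureModule e.inv
  refine AmpleVan.subsingleton_of_iso i 1 ?_
  haveI : Subsingleton (Coh.HH T (Coh.structureModule T) (0 + 1)) :=
    PnCoh.subsingleton_HH_structureModule (ι := Fin (n + 1)) (R := K) (PnCoh.isQCoh_structureModule _) 0
  exact φ.toEquiv.subsingleton

/-- Functions on `P^n_S` over an open of `S` are functions on the open. -/
theorem bijective_app_toBase (n : ℕ) (S : Scheme.{u}) (W : S.Opens) :
    Function.Bijective ((ProjSpaceOver.toBase n S).app W) := by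
  refine FlatMisc.bijective_app_of_isBasis _ S.isBasis_affineOpens (fun V hV => ?_) W
  let f := ProjSpaceOver.toBase n S
  let x := (show IsAffineOpen V from hV).fromSpec
  let c := ptMap n x
  haveI : IsOpenImmersion c := MorphismProperty.of_isPullback (isPullback_ptMap (n := n) x).flip inferInstance
  have hxr : x.opensRange = V := (show IsAffineOpen V from hV).opensRange_fromSpec
  have hrange : f ⁻¹ᵁ V ≤ c.opensRange := fun p hp => by
    obtain ⟨q, hq⟩ : f p ∈ x.opensRange := hxr.symm ▸ hp
    obtain ⟨z, hz, -⟩ := Scheme.exists_preimage_of_isPullback (isPullback_ptMap (n := n) x) p q hq.symm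
    exact ⟨z, hz⟩
  haveI := c.isIso_app (f ⁻¹ᵁ V) hrange
  haveI := x.isIso_app V hxr.ge
  have hcoe : ∀ {A B C : CommRingCat.{u}} (a : A ⟶ B) (b : B ⟶ C), ⇑(ConcreteCategory.hom (a ≫ b)) = b ∘ a :=
    fun a b => funext fun y => ConcreteCategory.comp_apply a b y
  have key : Function.Bijective ((c ≫ f).app V) := by
    rw [Scheme.Hom.congr_app (ptMap_toBase x) V, hcoe, Scheme.Hom.comp_app, hcoe]
    refine (ConcreteCategory.bijective_of_isIso _).comp (Function.Bijective.comp ?_
      (ConcreteCategory.bijective_of_isIso (x.app V)))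
    have htop : x ⁻¹ᵁ V = ⊤ := eq_top_iff.2 fun q _ => hxr.le ⟨q, rfl⟩
    have gen : ∀ U : (Spec (CommRingCat.of Γ(S, V))).Opens, U = ⊤ →
        Function.Bijective ((ProjSpace.toSpec n Γ(S, V)).app U) := by
      rintro _ rfl
      exact PnCoh.bijective_toSpecR_appTop (ι := Fin (n + 1))
    exact gen _ htop
  rw [Scheme.Hom.comp_app, hcoe] at key
  exact (Function.Bijective.of_comp_iff' (ConcreteCategory.bijective_of_isIso (c.app (f ⁻¹ᵁ V))) _).1 key

end Groth.Agent.PnPic
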