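import Groth.Agent.PnCoh.Sections
import Mathlib.Algebra.MonoidAlgebra.NoZeroDivisors
import Mathlib.RingTheory.Polynomial.UniqueFactorization

/-!
# Units of Laurent polynomial rings and the factoriality of the standard charts of projective space
-/

set_option autoImplicit false
set_option backward.isDefEq.respectTransparency false

universe u

open MvPolynomial AlgebraicGeometry

namespace Groth.Agent.PnPic

open PnCoh

variable {ι : Type} {R : Type u} [CommRing R]

/-- A unit Laurent polynomial over a domain is a monomial. -/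
theorem eq_single_of_mul_eq_one [IsDomain R] {f g : Laur ι R} (h : f * g = 1) :
    ∃ (e : Expo ι) (c : R), IsUnit c ∧ f = AddMonoidAlgebra.single e c ∧
      ∃ d : R, g = AddMonoidAlgebra.single (-e) d ∧ c * d = 1 := by
  classical
  haveI : Nontrivial R := inferInstance
  have hf : f ≠ 0 := left_ne_zero_of_mul_eq_one h
  have hg : g ≠ 0 := right_ne_zero_of_mul_eq_one h
  have hfs : f.coeff.support.Nonempty := by
    rw [Finsupp.support_nonempty_iff, Ne, AddMonoidAlgebra.coeff_eq_zero]; exact hf
  have hgs : g.coeff.support.Nonempty := by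
    rw [Finsupp.support_nonempty_iff, Ne, AddMonoidAlgebra.coeff_eq_zero]; exact hg
  have hcard : f.coeff.support.card * g.coeff.support.card ≤ 1 := by
    by_contra hlt
    obtain ⟨p, hp, q, hq, hne, hu, hv⟩ := TwoUniqueSums.uniqueAdd_of_one_lt_card (not_le.1 hlt)
    rw [Finset.mem_product, Finsupp.mem_support_iff, Finsupp.mem_support_iff] at hp hq
    have h1 := AddMonoidAlgebra.coeff_mul_add_of_uniqueAdd hu
    have h2 := AddMonoidAlgebra.coeff_mul_add_of_uniqueAdd hv
    rw [h, AddMonoidAlgebra.one_def, AddMonoidAlgebra.coeff_single, Finsupp.single_apply] at h1 h2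
    have e1 : (0 : Expo ι) = p.1 + p.2 := by
      by_contra hn; rw [if_neg hn] at h1; exact mul_ne_zero hp.1 hp.2 h1.symm
    have e2 : (0 : Expo ι) = q.1 + q.2 := by
      by_contra hn; rw [if_neg hn] at h2; exact mul_ne_zero hq.1 hq.2 h2.symm
    obtain ⟨a1, a2⟩ := hu (a := q.1) (b := q.2) (Finsupp.mem_support_iff.2 hq.1) (Finsupp.mem_support_iff.2 hq.2)
      (e2.symm.trans e1)
    exact hne (Prod.ext a1.symm a2.symm)
  have hf1 : f.coeff.support.card = 1 := by
    have := Finset.card_pos.2 hgs
    have := Finset.card_pos.2 hfs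
    nlinarith
  have hg1 : g.coeff.support.card = 1 := by
    have := Finset.card_pos.2 hgs
    rw [hf1] at hcard
    omega
  obtain ⟨a, c, hc, hfc⟩ := Finsupp.card_support_eq_one'.1 hf1
  obtain ⟨b, d, hd, hgd⟩ := Finsupp.card_support_eq_one'.1 hg1
  have hf' : f = AddMonoidAlgebra.single a c :=
    AddMonoidAlgebra.coeff_inj.1 (hfc.trans (AddMonoidAlgebra.coeff_single _ _).symm)
  have hg' : g = AddMonoidAlgebra.single b d :=
    AddMonoidAlgebra.coeff_inj.1 (hgd.trans (AddMonoidAlgebra.coeff_single _ _).symm)
  rw [hf', hg', AddMonoidAlgebra.single_mul_single, AddMonoidAlgebra.one_def] at h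
  have h' := congrArg AddMonoidAlgebra.coeff h
  rw [AddMonoidAlgebra.coeff_single, AddMonoidAlgebra.coeff_single] at h'
  rcases (Finsupp.single_eq_single_iff _ _ _ _).1 h' with ⟨hab, hcd⟩ | ⟨h0, -⟩
  · exact ⟨a, c, IsUnit.of_mul_eq_one _ hcd, hf', d, by rw [hg', eq_neg_of_add_eq_zero_right hab], hcd⟩
  · exact absurd h0 (mul_ne_zero hc hd)

section Chart

variable (i : ι)

/-- The exponent of a monomial of the chart. -/
noncomputable def chartExpo : ({j : ι // j ≠ i} →₀ ℕ) →+ Expo ι :=
  (castExpo ι).comp (Finsupp.embDomain.addMonoidHom (Function.Embedding.subtype _)) -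
    (Finsupp.singleAddHom i).comp ((Nat.castAddMonoidHom ℤ).comp Finsupp.degree)

theorem chartExpo_apply (a : {j : ι // j ≠ i} →₀ ℕ) {j : ι} (hj : j ≠ i) : chartExpo i a j = (a ⟨j, hj⟩ : ℤ) := by
  classical
  simp [chartExpo, castExpo_apply, hj]
  exact Finsupp.embDomain_apply_self (Function.Embedding.subtype _) a ⟨j, hj⟩

theorem chartExpo_injective : Function.Injective (chartExpo (ι := ι) i) := fun a b h => by
  ext ⟨j, hj⟩
  have h' := DFunLike.congr_fun h j
  rw [chartExpo_apply i a hj, chartExpo_apply i b hj] at h'
  exact_mod_cast h'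

/-- The chart polynomial ring inside the Laurent polynomials. -/
noncomputable def chartHom : MvPolynomial {j : ι // j ≠ i} R →+* Laur ι R :=
  AddMonoidAlgebra.mapDomainRingHom R (chartExpo i)

theorem chartHom_injective : Function.Injective (chartHom (R := R) i) :=
  AddMonoidAlgebra.mapDomain_injective (chartExpo_injective i)

theorem chartExpo_mem (a : {j : ι // j ≠ i} →₀ ℕ) : chartExpo i a ∈ supp ({i} : Set ι) := by
  refine ⟨?_, fun j hj => ?_⟩
  · rw [chartExpo, AddMonoidHom.sub_apply, sub_eq_add_neg, Finsupp.sum_add_index' (fun _ => rfl) (fun _ _ _ => rfl),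
      Finsupp.sum_neg_index (fun _ => rfl), Finsupp.sum_neg]
    have hdeg : (Finsupp.embDomain (Function.Embedding.subtype fun j => j ≠ i) a).degree = a.degree := by
      rw [Finsupp.degree_apply, Finsupp.degree_apply, Finsupp.support_embDomain, Finset.sum_map]
      exact Finset.sum_congr rfl fun x _ => Finsupp.embDomain_apply_self _ a x
    simp [sum_castExpo]
    rw [hdeg, add_neg_cancel]
  · by_contra hji
    rw [chartExpo_apply i a hji] at hj
    omega

theorem range_chartHom [Fintype ι] :
    ((chartHom (R := R) i).range : Set (Laur ι R)) = (AddMonoidAlgebra.supported R R (supp ({i} : Set ι)) : Set (Laur ι R)) := by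
  classical
  apply Set.Subset.antisymm
  · rintro _ ⟨p, rfl⟩
    rw [p.as_sum, map_sum]
    refine Submodule.sum_mem _ fun a _ => ?_
    rw [show chartHom i (monomial a (p.coeff a)) = AddMonoidAlgebra.single (chartExpo i a) (p.coeff a) from
      AddMonoidAlgebra.mapDomain_single ..]
    refine AddMonoidAlgebra.mem_supported'.2 fun m hm => ?_
    rw [AddMonoidAlgebra.coeff_single, Finsupp.single_apply, if_neg]
    rintro rfl
    exact hm (chartExpo_mem i a)
  · intro p hp
    rw [SetLike.mem_coe, AddMonoidAlgebra.supported_eq_span_single] at hp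
    induction hp using Submodule.span_induction with
    | mem _ hx =>
      obtain ⟨e, ⟨he0, he⟩, rfl⟩ := hx
      let a : {j : ι // j ≠ i} →₀ ℕ := Finsupp.equivFunOnFinite.symm fun j => (e j.1).toNat
      refine ⟨monomial a 1, ?_⟩
      rw [show chartHom i (monomial a (1 : R)) = AddMonoidAlgebra.single (chartExpo i a) (1 : R) from
        AddMonoidAlgebra.mapDomain_single ..]
      congr 1
      have hne : ∀ j, j ≠ i → chartExpo i a j = e j := fun j hj => by
        rw [chartExpo_apply i a hj]
        have : 0 ≤ e j := by by_contra hn; exact hj (he j (not_le.1 hn))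
        simp [a, Int.toNat_of_nonneg this]
      ext j
      by_cases hj : j = i
      · subst hj
        have h1 := (chartExpo_mem j a).1
        rw [Finsupp.sum_fintype _ _ (fun _ => rfl)] at h1 he0
        have h2 : ∑ k ∈ Finset.univ.erase j, chartExpo j a k = ∑ k ∈ Finset.univ.erase j, e k :=
          Finset.sum_congr rfl fun k hk => hne k (Finset.ne_of_mem_erase hk)
        have h3 := Finset.add_sum_erase Finset.univ (fun k => chartExpo j a k) (Finset.mem_univ j)
        have h4 := Finset.add_sum_erase Finset.univ (fun k => e k) (Finset.mem_univ j)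
        omega
      · exact hne j hj
    | zero => exact zero_mem _
    | add _ _ _ _ ha hb => exact add_mem ha hb
    | smul r x _ hx =>
      obtain ⟨b, hb⟩ := hx
      refine ⟨C r * b, ?_⟩
      rw [map_mul, hb]
      ext m
      rw [show chartHom i (C r) = AddMonoidAlgebra.single (chartExpo i 0) r from AddMonoidAlgebra.mapDomain_single ..,
        map_zero]
      simp

attribute [local instance] MvPolynomial.gradedAlgebra

/-- The functions on a standard chart are a polynomial ring. -/
noncomputable def chartEquiv [Fintype ι] :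
    MvPolynomial {j : ι // j ≠ i} R ≃+* Γ(Proj (homogeneousSubmodule ι R), mOpen R (Finsupp.single i 1)) :=
  let χ := secL (R := R) (Finsupp.single i 1) (Finsupp.single_ne_zero.2 one_ne_zero)
  have h : (chartHom (R := R) i).range = χ.range := by
    refine SetLike.coe_injective ((range_chartHom i).trans ?_)
    ext p
    have hs : ((Finsupp.single i 1 : ι →₀ ℕ).support : Set ι) = {i} := by
      rw [Finsupp.support_single _ one_ne_zero, Finset.coe_singleton]
    refine ⟨fun hp => exists_secL_eq _ _ (by rw [hs]; exact hp), ?_⟩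
    rintro ⟨x, rfl⟩
    exact hs ▸ secL_mem (Finsupp.single i 1) (Finsupp.single_ne_zero.2 one_ne_zero) x
  (RingEquiv.ofBijective (chartHom (R := R) i).rangeRestrict
      ⟨fun a b hab => chartHom_injective i (congrArg Subtype.val hab), RingHom.rangeRestrict_surjective _⟩).trans
    ((RingEquiv.subringCongr h).trans (RingEquiv.ofBijective χ.rangeRestrict
      ⟨fun a b hab => secL_injective _ _ (congrArg Subtype.val hab), RingHom.rangeRestrict_surjective _⟩).symm)

end Chart

end Groth.Agent.PnPic
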